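import Groth.Agent.L12.GrCI.Graded
import Groth.Agent.L07.RegularQuotient

/-! `k` homogeneous equations with a finite zero locus in `k` variables are regular. -/

set_option autoImplicit false

namespace Groth.L12.GrCI

open MvPolynomial IsLocalRing

universe u

theorem wreg_of_finite {F : Type u} [Field F] {k : ℕ} {δ : Fin k → ℕ} (hδ : ∀ i, 0 < δ i)
    {g : Fin k → MvPolynomial (Fin k) F} {ε : Fin k → ℕ} (hε : ∀ i, 0 < ε i)
    (hg : ∀ i, IsWeightedHomogeneous δ (g i) (ε i))
    (hfin : Module.Finite F (MvPolynomial (Fin k) F ⧸ Ideal.span (Set.range g))) :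
    RingTheory.Sequence.IsWeaklyRegular (MvPolynomial (Fin k) F) (List.ofFn g) := by
  classical
  have hg0 : ∀ i, constantCoeff (g i) = 0 := fun i => by
    rw [constantCoeff_eq]
    exact (hg i).coeff_eq_zero 0 (by simpa using (hε i).ne)
  set m : Ideal (MvPolynomial (Fin k) F) := RingHom.ker constantCoeff with hm
  haveI hmax : m.IsMaximal := RingHom.ker_isMaximal_of_surjective _ fun r => ⟨C r, constantCoeff_C _ r⟩
  let A := Localization.AtPrime m
  haveI : IsRegularLocalRing A := IsRegularRing.isRegularLocalRing_localization m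
  let φ := algebraMap (MvPolynomial (Fin k) F) A
  have hmem : ∀ x ∈ m, φ x ∈ maximalIdeal A := fun x hx =>
    (IsLocalization.AtPrime.to_map_mem_maximal_iff A m x).mpr hx
  -- dimension
  have hX : RingTheory.Sequence.IsWeaklyRegular (MvPolynomial (Fin k) F)
      (List.ofFn fun i : Fin k => (X i : MvPolynomial (Fin k) F)) := by
    rw [wreg_ofFn_iff]
    intro i y hy
    have e : Ideal.ofList ((List.ofFn fun i : Fin k => (X i : MvPolynomial (Fin k) F)).take i) =
        Ideal.span (X '' {j : Fin k | j < i}) := by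
      refine congrArg Ideal.span (Set.ext fun x => ?_)
      simp only [Set.mem_ofPred_eq, Set.mem_image, List.mem_take_iff_getElem,
        List.length_ofFn, List.getElem_ofFn]
      constructor
      · rintro ⟨j, hj, rfl⟩
        exact ⟨⟨j, by omega⟩, show j < (i : ℕ) by omega, rfl⟩
      · rintro ⟨j, hj, rfl⟩
        have hj' : (j : ℕ) < (i : ℕ) := hj
        exact ⟨j, by omega, rfl⟩
    rw [e] at hy ⊢
    rw [mem_ideal_span_X_image] at hy ⊢
    intro n hn
    obtain ⟨j, hj, hj0⟩ := hy (Finsupp.single i 1 + n) (by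
      rw [mem_support_iff] at hn ⊢
      rwa [coeff_X_mul])
    refine ⟨j, hj, ?_⟩
    have : j ≠ i := ne_of_lt hj
    simpa [Finsupp.single_apply, this.symm] using hj0
  have hXA := hX.of_isLocalization A m.primeCompl
  have hXm : ∀ r ∈ (List.ofFn fun i : Fin k => (X i : MvPolynomial (Fin k) F)).map φ,
      r ∈ maximalIdeal A := by
    intro r hr
    obtain ⟨x, hx, rfl⟩ := List.mem_map.mp hr
    obtain ⟨i, rfl⟩ := List.mem_ofFn.mp hx
    exact hmem _ (by simp [hm])
  have hdimA : (k : WithBot ℕ∞) ≤ ringKrullDim A := by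
    have hr := RingTheory.Sequence.IsRegular.of_isWeaklyRegular_of_mem_maximalIdeal A hXm hXA
    have h := ringKrullDim_add_length_eq_ringKrullDim_of_isRegular _ hr
    rw [List.length_map, List.length_ofFn] at h
    rw [← h]
    haveI : Nontrivial (A ⧸ Ideal.ofList ((List.ofFn fun i : Fin k => (X i : MvPolynomial (Fin k) F)).map φ)) :=
      Ideal.Quotient.nontrivial_iff.mpr fun htop => (maximalIdeal.isMaximal A).ne_top
        (top_le_iff.mp (htop ▸ Ideal.span_le.mpr hXm))
    exact le_add_of_nonneg_left ringKrullDim_nonneg_of_nontrivial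
  -- the quotient has dimension zero
  set J := Ideal.span (Set.range g) with hJ
  haveI := hfin
  haveI : IsArtinianRing (MvPolynomial (Fin k) F ⧸ J) :=
    isArtinian_of_tower F (inferInstance : IsArtinian F (MvPolynomial (Fin k) F ⧸ J))
  have hl : ∀ r ∈ (List.ofFn g).map φ, r ∈ maximalIdeal A := by
    intro r hr
    obtain ⟨x, hx, rfl⟩ := List.mem_map.mp hr
    obtain ⟨i, rfl⟩ := List.mem_ofFn.mp hx
    exact hmem _ (hg0 i)
  have hlist : Ideal.ofList ((List.ofFn g).map φ) = J.map φ := by
    rw [← Ideal.map_ofList]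
    congr 1
    exact congrArg Ideal.span (Set.ext fun x => by simp [List.mem_ofFn])
  have hdimQ : ringKrullDim (A ⧸ Ideal.ofList ((List.ofFn g).map φ)) ≤ 0 := by
    suffices Ring.KrullDimLE 0 (A ⧸ Ideal.ofList ((List.ofFn g).map φ)) by
      exact Ring.krullDimLE_iff.mp this
    refine Ring.krullDimLE_zero_iff.mpr fun Q hQ => ?_
    haveI := hQ
    let qA := Ideal.comap (Ideal.Quotient.mk (Ideal.ofList ((List.ofFn g).map φ))) Q
    have hqA : Ideal.ofList ((List.ofFn g).map φ) ≤ qA := fun x hx => by
      simp only [qA, Ideal.mem_comap, Ideal.Quotient.eq_zero_iff_mem.mpr hx, Ideal.zero_mem]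
    haveI : qA.IsPrime := Ideal.comap_isPrime _ _
    let q := qA.comap φ
    haveI : q.IsPrime := Ideal.comap_isPrime _ _
    have hJq : J ≤ q := Ideal.map_le_iff_le_comap.mp (hlist ▸ hqA)
    have hqmax : q.IsMaximal := by
      haveI : (q.map (Ideal.Quotient.mk J)).IsPrime :=
        Ideal.map_isPrime_of_surjective Ideal.Quotient.mk_surjective (by rwa [Ideal.mk_ker])
      haveI : (q.map (Ideal.Quotient.mk J)).IsMaximal := IsArtinianRing.isMaximal_of_isPrime _
      have h := Ideal.comap_isMaximal_of_surjective (Ideal.Quotient.mk J)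
        Ideal.Quotient.mk_surjective (K := q.map (Ideal.Quotient.mk J))
      rwa [Ideal.comap_map_of_surjective _ Ideal.Quotient.mk_surjective,
        ← RingHom.ker_eq_comap_bot, Ideal.mk_ker, sup_eq_left.mpr hJq] at h
    have hqle : q ≤ m := by
      intro x hx
      have := IsLocalRing.le_maximalIdeal (J := qA) (Ideal.IsPrime.ne_top inferInstance) hx
      exact (IsLocalization.AtPrime.to_map_mem_maximal_iff A m x).mp this
    have hqm : q = m := hqmax.eq_of_le hmax.ne_top hqle
    have hqA' : qA = maximalIdeal A := by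
      have h1 : qA = q.map φ := (IsLocalization.map_comap m.primeCompl A qA).symm
      rw [h1, hqm]
      exact IsLocalization.AtPrime.map_eq_maximalIdeal m A
    have hQ' : Q = qA.map (Ideal.Quotient.mk (Ideal.ofList ((List.ofFn g).map φ))) :=
      (Ideal.map_comap_of_surjective _ Ideal.Quotient.mk_surjective Q).symm
    rw [hQ', hqA']
    exact Ideal.map_eq_top_or_isMaximal_of_surjective _ Ideal.Quotient.mk_surjective
      (maximalIdeal.isMaximal A) |>.resolve_left fun h => hQ.ne_top (by rw [hQ', hqA', h])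
  have hregA : RingTheory.Sequence.IsWeaklyRegular A ((List.ofFn g).map φ) := by
    refine Groth.L07.RegQuot.isWeaklyRegular_of_dim _ hl ?_
    rw [List.length_map, List.length_ofFn]
    exact le_trans (add_le_add_left hdimQ _) (by rwa [zero_add])
  rw [wreg_iff] at hregA
  rw [wreg_ofFn_iff]
  intro i y hy
  have h1 := hregA i (by simp) (φ y) (by
    simp only [List.getElem_map, List.getElem_ofFn, Fin.eta, ← map_mul, ← List.map_take,
      ← Ideal.map_ofList]
    exact Ideal.mem_map_of_mem _ hy)
  rw [← List.map_take, ← Ideal.map_ofList,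
    IsLocalization.algebraMap_mem_map_algebraMap_iff m.primeCompl] at h1
  obtain ⟨s, hs, hsy⟩ := h1
  refine mem_of_mul_mem hδ (homog_take hg i) (fun z hz => ?_) hsy
  have hs0 : constantCoeff s ≠ 0 := hs
  have := Ideal.mul_mem_left _ (C (constantCoeff s)⁻¹) hz
  rwa [← mul_assoc, ← map_mul, inv_mul_cancel₀ hs0, map_one, one_mul] at this

end Groth.L12.GrCI
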