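import Mathlib.RingTheory.MvPolynomial.WeightedHomogeneous
import Mathlib.RingTheory.MvPolynomial.Ideal
import Mathlib.RingTheory.Regular.RegularSequence
import Mathlib.Tactic

/-! Weighted homogeneous ideals of polynomial rings. -/

set_option autoImplicit false

namespace Groth.L12.GrCI

open MvPolynomial

universe u v

variable {R : Type u} [CommRing R] {σ : Type v} (w : σ → ℕ)

local notation "cp" => weightedHomogeneousComponent w

/-- An ideal containing the components of its members. -/
def Homog (J : Ideal (MvPolynomial σ R)) : Prop :=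
  ∀ x ∈ J, ∀ u : ℕ, cp u x ∈ J

variable {w}

theorem comp_mul {g : MvPolynomial σ R} {e : ℕ} (hg : IsWeightedHomogeneous w g e)
    (a : MvPolynomial σ R) (u : ℕ) :
    cp u (g * a) = if e ≤ u then g * cp (u - e) a else 0 := by
  classical
  induction a using MvPolynomial.induction_on' with
  | monomial d r =>
    have hm : IsWeightedHomogeneous w (monomial d r) (Finsupp.weight w d) :=
      isWeightedHomogeneous_monomial _ _ _ rfl
    rw [weightedHomogeneousComponent_of_mem (n := e + Finsupp.weight w d) (hg.mul hm),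
      weightedHomogeneousComponent_of_mem (m := u - e) hm]
    split_ifs with h1 h2 h3 h4 <;> first | rfl | (exfalso; omega) | simp
  | add a b ha hb =>
    rw [mul_add, map_add, ha, hb, map_add]
    split_ifs with h
    · rw [mul_add]
    · rw [add_zero]

theorem homog_bot : Homog (R := R) w (⊥ : Ideal (MvPolynomial σ R)) := by
  intro x hx u
  rw [Ideal.mem_bot] at hx ⊢
  rw [hx, map_zero]

theorem homog_span {S : Set (MvPolynomial σ R)} (hS : ∀ s ∈ S, ∃ e, IsWeightedHomogeneous w s e) :
    Homog w (Ideal.span S) := by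
  intro x hx
  induction hx using Submodule.span_induction with
  | mem s hs =>
    intro u
    obtain ⟨e, he⟩ := hS s hs
    have h := comp_mul he 1 u
    rw [mul_one] at h
    rw [h]
    split_ifs
    · exact Ideal.mul_mem_right _ _ (Ideal.subset_span hs)
    · exact Ideal.zero_mem _
  | zero => intro u; rw [map_zero]; exact Ideal.zero_mem _
  | add a b _ _ ha hb => intro u; rw [map_add]; exact Ideal.add_mem _ (ha u) (hb u)
  | smul a x _ hx =>
    intro u
    rw [smul_eq_mul, mul_comm, ← sum_weightedHomogeneousComponent (w := w) x,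
      finsum_eq_sum _ (weightedHomogeneousComponent_finsupp x), Finset.sum_mul, map_sum]
    refine Ideal.sum_mem _ fun v _ => ?_
    rw [comp_mul (weightedHomogeneousComponent_isWeightedHomogeneous v x)]
    split_ifs
    · exact Ideal.mul_mem_right _ _ (hx v)
    · exact Ideal.zero_mem _

variable (w) in
/-- Components below `u` vanish. -/
def Low (u : ℕ) (z : MvPolynomial σ R) : Prop :=
  ∀ d : σ →₀ ℕ, Finsupp.weight w d < u → coeff d z = 0

theorem low_mul (hw : ∀ i, 0 < w i) {a z : MvPolynomial σ R} (ha : constantCoeff a = 0) {u : ℕ}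
    (hz : Low w u z) : Low w (u + 1) (a * z) := by
  classical
  intro d hd
  rw [coeff_mul]
  refine Finset.sum_eq_zero fun p hp => ?_
  rw [Finset.mem_antidiagonal] at hp
  by_cases h : p.1 = 0
  · rw [h]
    simp only [← constantCoeff_eq]
    rw [ha, zero_mul]
  · obtain ⟨i, hi⟩ := Finsupp.support_nonempty_iff.mpr h
    have h1 : w i ≤ Finsupp.weight w p.1 := Finsupp.le_weight_of_ne_zero' w (Finsupp.mem_support_iff.mp hi)
    have h2 : Finsupp.weight w p.2 < u := by
      rw [← hp, map_add] at hd
      have := hw i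
      omega
    rw [hz p.2 h2, mul_zero]

theorem low_pow (hw : ∀ i, 0 < w i) {a : MvPolynomial σ R} (ha : constantCoeff a = 0)
    (y : MvPolynomial σ R) : ∀ n, Low w n (a ^ n * y) := by
  intro n
  induction n with
  | zero => intro d hd; omega
  | succ n ih =>
    rw [pow_succ', mul_assoc]
    exact low_mul hw ha ih

/-- Descent from a localization at the irrelevant ideal. -/
theorem mem_of_mul_mem (hw : ∀ i, 0 < w i) {J : Ideal (MvPolynomial σ R)} (hJ : Homog w J)
    {s y : MvPolynomial σ R}
    (hc : ∀ z, C (constantCoeff s) * z ∈ J → z ∈ J) (h : s * y ∈ J) : y ∈ J := by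
  classical
  set c : MvPolynomial σ R := C (constantCoeff s) with hcdef
  set a : MvPolynomial σ R := c - s with hadef
  have ha : constantCoeff a = 0 := by simp [a, c]
  have key : ∀ n, c ^ n * y - a ^ n * y ∈ J := by
    intro n
    induction n with
    | zero => simp
    | succ n ih =>
      have h' : c ^ (n + 1) * y - a ^ (n + 1) * y =
          c * (c ^ n * y - a ^ n * y) + a ^ n * (s * y) := by
        simp only [a]; ring
      rw [h']
      exact Ideal.add_mem _ (J.mul_mem_left _ ih) (J.mul_mem_left _ h)
  have hcn : ∀ n z, c ^ n * z ∈ J → z ∈ J := by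
    intro n
    induction n with
    | zero => intro z hz; simpa using hz
    | succ n ih => intro z hz; exact hc z (ih _ (by rwa [pow_succ, mul_assoc] at hz))
  rw [← sum_weightedHomogeneousComponent (w := w) y,
    finsum_eq_sum _ (weightedHomogeneousComponent_finsupp y)]
  refine Ideal.sum_mem _ fun u _ => hcn (u + 1) _ ?_
  have hlow : cp u (a ^ (u + 1) * y) = 0 := by
    ext d
    rw [coeff_weightedHomogeneousComponent, coeff_zero]
    split_ifs with hd
    · exact low_pow hw ha y (u + 1) d (by omega)
    · rfl
  have h3 := hJ _ (key (u + 1)) u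
  rw [map_sub, hlow, sub_zero] at h3
  have h4 : c ^ (u + 1) = C (constantCoeff s ^ (u + 1)) := (map_pow C _ _).symm
  rwa [h4, weightedHomogeneousComponent_C_mul, ← h4] at h3

theorem wreg_iff {A : Type u} [CommRing A] (rs : List A) :
    RingTheory.Sequence.IsWeaklyRegular A rs ↔ ∀ (i : ℕ) (h : i < rs.length) (y : A),
      rs[i] * y ∈ Ideal.ofList (rs.take i) → y ∈ Ideal.ofList (rs.take i) := by
  constructor
  · intro h i hi y hy
    have hr := h.regular_mod_prev i hi
    have e : Ideal.ofList (rs.take i) • (⊤ : Submodule A A) = Ideal.ofList (rs.take i) := by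
      rw [smul_eq_mul, Ideal.mul_top]
    rw [← e] at hy ⊢
    rw [← Submodule.Quotient.mk_eq_zero] at hy ⊢
    rw [← smul_eq_mul, Submodule.Quotient.mk_smul] at hy
    exact hr.right_eq_zero_of_smul hy
  · refine fun h => ⟨fun i hi => isSMulRegular_iff_right_eq_zero_of_smul.mpr fun y hy => ?_⟩
    obtain ⟨y, rfl⟩ := Submodule.mkQ_surjective _ y
    rw [← map_smul, Submodule.mkQ_apply, Submodule.Quotient.mk_eq_zero] at hy
    rw [Submodule.mkQ_apply, Submodule.Quotient.mk_eq_zero]
    rw [smul_eq_mul, Ideal.mul_top] at hy ⊢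
    exact h i hi y hy

theorem ofList_take_succ {A : Type u} [CommRing A] {k : ℕ} (g : Fin k → A) (i : Fin k) :
    Ideal.ofList ((List.ofFn g).take ((i : ℕ) + 1)) =
      Ideal.ofList ((List.ofFn g).take i) ⊔ Ideal.span {g i} := by
  rw [List.take_succ_eq_append_getElem (by simp), Ideal.ofList_append, Ideal.ofList_singleton]
  simp

theorem ofList_take_all {A : Type u} [CommRing A] {k : ℕ} (g : Fin k → A) :
    Ideal.ofList ((List.ofFn g).take k) = Ideal.span (Set.range g) := by
  rw [List.take_of_length_le (by simp)]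
  exact congrArg Ideal.span (Set.ext fun x => by simp [List.mem_ofFn])

theorem homog_take {k : ℕ} {g : Fin k → MvPolynomial σ R} {ε : Fin k → ℕ}
    (hg : ∀ i, IsWeightedHomogeneous w (g i) (ε i)) (i : ℕ) :
    Homog w (Ideal.ofList ((List.ofFn g).take i)) := by
  refine homog_span fun s hs => ?_
  obtain ⟨j, rfl⟩ := List.mem_ofFn.mp (List.mem_of_mem_take hs)
  exact ⟨_, hg j⟩

theorem wreg_ofFn_iff {A : Type u} [CommRing A] {k : ℕ} (g : Fin k → A) :
    RingTheory.Sequence.IsWeaklyRegular A (List.ofFn g) ↔ ∀ (i : Fin k) (y : A),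
      g i * y ∈ Ideal.ofList ((List.ofFn g).take i) → y ∈ Ideal.ofList ((List.ofFn g).take i) := by
  rw [wreg_iff]
  constructor
  · intro h i y hy
    exact h i (by simp) y (by simpa using hy)
  · intro h i hi y hy
    rw [List.getElem_ofFn] at hy
    exact h ⟨i, by simpa using hi⟩ y hy

end Groth.L12.GrCI
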