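import Groth.Agent.L12.GrCI.Graded
import Mathlib.RingTheory.PowerSeries.Basic
import Mathlib.LinearAlgebra.Dimension.RankNullity
import Mathlib.Algebra.Polynomial.BigOperators

/-! Hilbert series of graded complete intersections. -/

set_option autoImplicit false

namespace Groth.L12.GrCI

open MvPolynomial

universe u v

section

variable {F : Type u} [Field F] {σ : Type v} [Finite σ] (w : σ → ℕ)

/-- The piece of degree `u` of the quotient by `J`. -/
noncomputable abbrev piece (J : Ideal (MvPolynomial σ F)) (u : ℕ) :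
    Submodule F (MvPolynomial σ F ⧸ J) :=
  (weightedHomogeneousSubmodule F w u).map (Ideal.Quotient.mkₐ F J).toLinearMap

variable {w}

theorem piece_fd (hw : ∀ i, 0 < w i) (J : Ideal (MvPolynomial σ F)) (u : ℕ) :
    FiniteDimensional F (piece w J u) := by
  haveI : Module.Finite F (weightedHomogeneousSubmodule F w u) :=
    Module.Finite.iff_fg.mpr (weightedHomogeneousSubmodule_fg F w (fun i => (hw i).ne') u)
  exact Module.Finite.map _ _

omit [Finite σ] in
theorem mem_piece {J : Ideal (MvPolynomial σ F)} {u : ℕ} {x : MvPolynomial σ F ⧸ J} :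
    x ∈ piece w J u ↔ ∃ a, IsWeightedHomogeneous w a u ∧ Ideal.Quotient.mk J a = x := by
  simp [piece, Submodule.mem_map, mem_weightedHomogeneousSubmodule]

/-- Dividing by a regular homogeneous element. -/
theorem finrank_piece_step (hw : ∀ i, 0 < w i) {J J' : Ideal (MvPolynomial σ F)}
    {g : MvPolynomial σ F} {e : ℕ} (hJ : Homog w J) (hg : IsWeightedHomogeneous w g e)
    (hJ' : J' = J ⊔ Ideal.span {g}) (hreg : ∀ y, g * y ∈ J → y ∈ J) (u : ℕ) :
    (Module.finrank F (piece w J' u) : ℤ) = Module.finrank F (piece w J u) -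
      (if e ≤ u then (Module.finrank F (piece w J (u - e)) : ℤ) else 0) := by
  haveI := piece_fd hw J u
  have hle : J ≤ J' := hJ' ▸ le_sup_left
  let π : (MvPolynomial σ F ⧸ J) →ₗ[F] (MvPolynomial σ F ⧸ J') :=
    (Ideal.Quotient.factorₐ F hle).toLinearMap
  let L : (MvPolynomial σ F ⧸ J) →ₗ[F] (MvPolynomial σ F ⧸ J) :=
    LinearMap.mulLeft F (Ideal.Quotient.mk J g)
  have hπ : ∀ a, π (Ideal.Quotient.mk J a) = Ideal.Quotient.mk J' a := fun a => rfl
  have hL : ∀ a, L (Ideal.Quotient.mk J a) = Ideal.Quotient.mk J (g * a) := fun a => by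
    simp [L]
  have hLinj : Function.Injective L := by
    rw [injective_iff_map_eq_zero]
    intro x hx
    obtain ⟨a, rfl⟩ := Ideal.Quotient.mk_surjective x
    rw [hL, Ideal.Quotient.eq_zero_iff_mem] at hx
    exact Ideal.Quotient.eq_zero_iff_mem.mpr (hreg a hx)
  let f := π.domRestrict (piece w J u)
  have hrange : LinearMap.range f = piece w J' u := by
    rw [LinearMap.range_domRestrict, piece, piece, ← Submodule.map_comp]
    rfl
  have hker : (LinearMap.ker f).map (piece w J u).subtype = piece w J u ⊓ LinearMap.ker π := by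
    rw [LinearMap.ker_domRestrict, Submodule.map_comap_subtype]
  have hK : piece w J u ⊓ LinearMap.ker π =
      if e ≤ u then (piece w J (u - e)).map L else ⊥ := by
    apply le_antisymm
    · rintro x ⟨hx, hx'⟩
      obtain ⟨a, ha, rfl⟩ := mem_piece.mp hx
      have hx2 : a ∈ J' := by
        have := LinearMap.mem_ker.mp hx'
        rwa [hπ, Ideal.Quotient.eq_zero_iff_mem] at this
      rw [hJ', Submodule.mem_sup] at hx2
      obtain ⟨j, hj, z, hz, hjz⟩ := hx2
      obtain ⟨b, rfl⟩ := Ideal.mem_span_singleton'.mp hz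
      have h1 : a = weightedHomogeneousComponent w u j +
          weightedHomogeneousComponent w u (g * b) := by
        rw [← map_add, mul_comm g b, hjz, weightedHomogeneousComponent_eq_self ha]
      rw [comp_mul hg] at h1
      split_ifs at h1 ⊢ with he
      · refine Submodule.mem_map.mpr ⟨Ideal.Quotient.mk J (weightedHomogeneousComponent w (u - e) b),
          mem_piece.mpr ⟨_, weightedHomogeneousComponent_isWeightedHomogeneous _ _, rfl⟩, ?_⟩
        rw [hL, h1, map_add (Ideal.Quotient.mk J), Ideal.Quotient.eq_zero_iff_mem.mpr (hJ j hj u),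
          zero_add]
      · rw [Submodule.mem_bot, h1, add_zero]
        exact Ideal.Quotient.eq_zero_iff_mem.mpr (hJ j hj u)
    · split_ifs with he
      · rintro _ ⟨y, hy, rfl⟩
        obtain ⟨a, ha, rfl⟩ := mem_piece.mp hy
        refine ⟨mem_piece.mpr ⟨g * a, ?_, (hL a).symm⟩, LinearMap.mem_ker.mpr ?_⟩
        · have h := hg.mul ha
          rwa [Nat.add_sub_cancel' he] at h
        · rw [hL, hπ, Ideal.Quotient.eq_zero_iff_mem, hJ']
          exact Ideal.mem_sup_right (Ideal.mem_span_singleton'.mpr ⟨a, mul_comm _ _⟩)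
      · exact bot_le
  have h2 := LinearMap.finrank_range_add_finrank_ker f
  rw [hrange] at h2
  have h3 : Module.finrank F (LinearMap.ker f) =
      if e ≤ u then Module.finrank F (piece w J (u - e)) else 0 := by
    rw [← Submodule.finrank_map_subtype_eq, hker, hK]
    by_cases he : e ≤ u
    · rw [if_pos he, if_pos he]
      exact ((Submodule.equivMapOfInjective L hLinj _).finrank_eq).symm
    · rw [if_neg he, if_neg he]
      exact finrank_bot F _
  rw [h3] at h2
  split_ifs at h2 ⊢ <;> omega

variable (w) in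
/-- The Hilbert series of the quotient by `J`. -/
noncomputable def hilb (J : Ideal (MvPolynomial σ F)) : PowerSeries ℤ :=
  PowerSeries.mk fun u => (Module.finrank F (piece w J u) : ℤ)

theorem hilb_step (hw : ∀ i, 0 < w i) {J J' : Ideal (MvPolynomial σ F)} {g : MvPolynomial σ F}
    {e : ℕ} (hJ : Homog w J) (hg : IsWeightedHomogeneous w g e)
    (hJ' : J' = J ⊔ Ideal.span {g}) (hreg : ∀ y, g * y ∈ J → y ∈ J) :
    hilb w J' = (1 - PowerSeries.X ^ e) * hilb w J := by
  ext u
  rw [sub_mul, one_mul, map_sub, PowerSeries.coeff_X_pow_mul']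
  simp only [hilb, PowerSeries.coeff_mk]
  exact finrank_piece_step hw hJ hg hJ' hreg u

theorem hilb_take (hw : ∀ i, 0 < w i) {k : ℕ} {g : Fin k → MvPolynomial σ F} {ε : Fin k → ℕ}
    (hg : ∀ i, IsWeightedHomogeneous w (g i) (ε i))
    (hreg : RingTheory.Sequence.IsWeaklyRegular (MvPolynomial σ F) (List.ofFn g)) :
    hilb w (Ideal.span (Set.range g)) =
      hilb w (⊥ : Ideal (MvPolynomial σ F)) * ∏ i, (1 - PowerSeries.X ^ (ε i)) := by
  rw [wreg_ofFn_iff] at hreg
  have H : ∀ i, i ≤ k → hilb w (Ideal.ofList ((List.ofFn g).take i)) =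
      hilb w (⊥ : Ideal (MvPolynomial σ F)) *
        ∏ j ∈ Finset.univ.filter (fun j : Fin k => (j : ℕ) < i), (1 - PowerSeries.X ^ (ε j)) := by
    intro i
    induction i with
    | zero => intro _; simp
    | succ i ih =>
      intro hi
      have hs := hilb_step hw (homog_take hg i) (hg ⟨i, hi⟩) (ofList_take_succ g ⟨i, hi⟩)
        (hreg ⟨i, hi⟩)
      have hins : Finset.univ.filter (fun j : Fin k => (j : ℕ) < i + 1) =
          insert ⟨i, hi⟩ (Finset.univ.filter (fun j : Fin k => (j : ℕ) < i)) := by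
        ext j; simp [Fin.ext_iff]; omega
      rw [hs, ih (Nat.le_of_succ_le hi), hins, Finset.prod_insert (by simp)]
      ring
  have := H k le_rfl
  rw [ofList_take_all] at this
  rw [this]
  congr 1
  exact Finset.prod_congr (by ext j; simp) fun _ _ => rfl

end

section

variable {F : Type u} [Field F] {k : ℕ} {δ : Fin k → ℕ}

theorem hilb_bot_mul (hδ : ∀ i, 0 < δ i) :
    hilb δ (⊥ : Ideal (MvPolynomial (Fin k) F)) * ∏ i, (1 - PowerSeries.X ^ (δ i)) = 1 := by
  classical
  have hreg : RingTheory.Sequence.IsWeaklyRegular (MvPolynomial (Fin k) F)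
      (List.ofFn fun i : Fin k => (X i : MvPolynomial (Fin k) F)) := by
    rw [wreg_ofFn_iff]
    intro i y hy
    have e : Ideal.ofList ((List.ofFn fun i : Fin k => (X i : MvPolynomial (Fin k) F)).take i) =
        Ideal.span (X '' {j : Fin k | j < i}) := by
      refine congrArg Ideal.span (Set.ext fun x => ?_)
      simp only [Set.mem_ofPred_eq, Set.mem_image, List.mem_take_iff_getElem,
        List.length_ofFn, List.getElem_ofFn]
      constructor
      · rintro ⟨j, hj, rfl⟩
        exact ⟨⟨j, by omega⟩, show j < (i : ℕ) by omega, rfl⟩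
      · rintro ⟨j, hj, rfl⟩
        have hj' : (j : ℕ) < (i : ℕ) := hj
        exact ⟨j, by omega, rfl⟩
    rw [e] at hy ⊢
    rw [mem_ideal_span_X_image] at hy ⊢
    intro m hm
    obtain ⟨j, hj, hj0⟩ := hy (Finsupp.single i 1 + m) (by
      rw [mem_support_iff] at hm ⊢
      rwa [coeff_X_mul])
    refine ⟨j, hj, ?_⟩
    have : j ≠ i := ne_of_lt hj
    simpa [Finsupp.single_apply, this.symm] using hj0
  have h := hilb_take hδ (fun i : Fin k => isWeightedHomogeneous_X F δ i) hreg
  rw [← h]
  ext u
  simp only [hilb, PowerSeries.coeff_mk, PowerSeries.coeff_one]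
  have hI : ∀ p : MvPolynomial (Fin k) F,
      p ∈ Ideal.span (Set.range fun i : Fin k => (X i : MvPolynomial (Fin k) F)) ↔
        constantCoeff p = 0 := by
    intro p
    rw [show (Set.range fun i : Fin k => (X i : MvPolynomial (Fin k) F)) = X '' Set.univ from
      Set.image_univ.symm, mem_ideal_span_X_image]
    constructor
    · intro hp
      by_contra h0
      obtain ⟨i, -, hi⟩ := hp 0 (mem_support_iff.mpr (by rwa [← constantCoeff_eq]))
      exact hi rfl
    · intro hp m hm
      by_contra h0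
      push_neg at h0
      have hm0 : m = 0 := Finsupp.ext fun i => h0 i (Set.mem_univ _)
      rw [mem_support_iff, hm0, ← constantCoeff_eq] at hm
      exact hm hp
  split_ifs with hu
  · subst hu
    have e : piece δ (Ideal.span (Set.range fun i : Fin k => (X i : MvPolynomial (Fin k) F))) 0 =
        F ∙ 1 := by
      apply le_antisymm
      · intro x hx
        obtain ⟨a, -, rfl⟩ := mem_piece.mp hx
        refine Submodule.mem_span_singleton.mpr ⟨constantCoeff a, ?_⟩
        rw [← Algebra.algebraMap_eq_smul_one]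
        refine (Ideal.Quotient.eq.mpr ((hI _).mpr ?_))
        simp
      · rw [Submodule.span_singleton_le_iff_mem]
        exact mem_piece.mpr ⟨1, isWeightedHomogeneous_one F δ, map_one _⟩
    rw [e, finrank_span_singleton]
    · rfl
    · intro h1
      have := (hI 1).mp (Ideal.Quotient.eq_zero_iff_mem.mp (by rw [map_one]; exact h1))
      simp at this
  · have e : piece δ (Ideal.span (Set.range fun i : Fin k => (X i : MvPolynomial (Fin k) F))) u =
        ⊥ := by
      rw [eq_bot_iff]
      intro x hx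
      obtain ⟨a, ha, rfl⟩ := mem_piece.mp hx
      rw [Submodule.mem_bot, Ideal.Quotient.eq_zero_iff_mem, hI, constantCoeff_eq]
      exact ha.coeff_eq_zero 0 (by simpa using Ne.symm hu)
    rw [e, finrank_bot]
    rfl

theorem hilb_mul_prod (hδ : ∀ i, 0 < δ i) {g : Fin k → MvPolynomial (Fin k) F} {ε : Fin k → ℕ}
    (hg : ∀ i, IsWeightedHomogeneous δ (g i) (ε i))
    (hreg : RingTheory.Sequence.IsWeaklyRegular (MvPolynomial (Fin k) F) (List.ofFn g)) :
    hilb δ (Ideal.span (Set.range g)) * ∏ i, (1 - PowerSeries.X ^ (δ i)) =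
      ∏ i, (1 - (PowerSeries.X : PowerSeries ℤ) ^ (ε i)) := by
  rw [hilb_take hδ hg hreg, mul_right_comm, hilb_bot_mul hδ, one_mul]

theorem exists_top_piece {J : Ideal (MvPolynomial (Fin k) F)} (hJ : Homog δ J)
    (hfin : Module.Finite F (MvPolynomial (Fin k) F ⧸ J)) :
    ∃ N : ℕ, (∀ u, N ≤ u → piece δ J u = ⊥) ∧
      Module.finrank F (MvPolynomial (Fin k) F ⧸ J) =
        ∑ u ∈ Finset.range N, Module.finrank F (piece δ J u) := by
  classical
  obtain ⟨s, hs⟩ := hfin.fg_top
  choose rep hrep using fun x : MvPolynomial (Fin k) F ⧸ J => Ideal.Quotient.mk_surjective x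
  obtain ⟨N, hN⟩ : ∃ N, ∀ x ∈ s, ∀ d ∈ (rep x).support, Finsupp.weight δ d < N :=
    ⟨(s.sup fun x => (rep x).support.sup fun d => Finsupp.weight δ d) + 1, fun x hx d hd =>
      Nat.lt_succ_of_le (le_trans (Finset.le_sup (f := fun d => Finsupp.weight δ d) hd)
        (Finset.le_sup (f := fun x => (rep x).support.sup fun d => Finsupp.weight δ d) hx))⟩
  let P := fun u : Fin N => piece δ J u
  let Φ : (∀ u : Fin N, P u) →ₗ[F] (MvPolynomial (Fin k) F ⧸ J) :=
    ∑ u : Fin N, (P u).subtype ∘ₗ LinearMap.proj u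
  have hΦ : ∀ f, Φ f = ∑ u : Fin N, (f u : MvPolynomial (Fin k) F ⧸ J) := fun f => by simp [Φ]
  have hsurj : Function.Surjective Φ := by
    rw [← LinearMap.range_eq_top, eq_top_iff, ← hs, Submodule.span_le]
    intro x hx
    let f : ∀ u : Fin N, P u := fun u =>
      ⟨Ideal.Quotient.mk J (weightedHomogeneousComponent δ (u : ℕ) (rep x)),
        mem_piece.mpr ⟨_, weightedHomogeneousComponent_isWeightedHomogeneous _ _, rfl⟩⟩
    refine ⟨f, ?_⟩
    rw [hΦ]
    simp only [f]
    rw [← map_sum]
    conv_rhs => rw [← hrep x]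
    congr 1
    ext d
    rw [coeff_sum]
    simp only [coeff_weightedHomogeneousComponent]
    by_cases hd : d ∈ (rep x).support
    · rw [Finset.sum_eq_single ⟨Finsupp.weight δ d, hN x hx d hd⟩]
      · simp
      · intro b _ hb
        rw [if_neg]
        exact fun h => hb (Fin.ext h.symm)
      · simp
    · rw [MvPolynomial.notMem_support_iff] at hd
      simp [hd]
  have hcomp : ∀ (f : ∀ u : Fin N, P u) (b : MvPolynomial (Fin k) F), Ideal.Quotient.mk J b = Φ f →
      ∀ v : ℕ, Ideal.Quotient.mk J (weightedHomogeneousComponent δ v b) =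
        if h : v < N then (f ⟨v, h⟩ : MvPolynomial (Fin k) F ⧸ J) else 0 := by
    intro f b hb v
    choose a ha ha' using fun u : Fin N => mem_piece.mp (f u).2
    have h0 : b - ∑ u, a u ∈ J := by
      rw [← Ideal.Quotient.eq_zero_iff_mem, map_sub, map_sum, hb, hΦ]
      simp [ha']
    have h1 := Ideal.Quotient.eq_zero_iff_mem.mpr (hJ _ h0 v)
    rw [map_sub, map_sub, map_sum, sub_eq_zero, map_sum] at h1
    rw [h1]
    split_ifs with hv
    · rw [Finset.sum_eq_single ⟨v, hv⟩]
      · rw [weightedHomogeneousComponent_eq_self (ha ⟨v, hv⟩), ha']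
      · intro b _ hb'
        rw [(ha b).weightedHomogeneousComponent_ne v fun h => hb' (Fin.ext h.symm), map_zero]
      · simp
    · refine Finset.sum_eq_zero fun b _ => ?_
      rw [(ha b).weightedHomogeneousComponent_ne v fun h => hv (h ▸ b.2), map_zero]
  have hinj : Function.Injective Φ := by
    rw [injective_iff_map_eq_zero]
    intro f hf
    funext v
    have := hcomp f 0 (by rw [map_zero, hf]) v
    rw [map_zero, map_zero, dif_pos v.2] at this
    exact Subtype.ext this.symm
  refine ⟨N, fun u hu => ?_, ?_⟩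
  · rw [eq_bot_iff]
    intro x hx
    obtain ⟨a, ha, rfl⟩ := mem_piece.mp hx
    obtain ⟨f, hf⟩ := hsurj (Ideal.Quotient.mk J a)
    have := hcomp f a hf.symm u
    rw [weightedHomogeneousComponent_eq_self ha, dif_neg (not_lt.mpr hu)] at this
    rw [Submodule.mem_bot, this]
  · haveI : ∀ u : Fin N, Module.Finite F (P u) := fun u => inferInstance
    rw [← (LinearEquiv.ofBijective Φ ⟨hinj, hsurj⟩).finrank_eq, Module.finrank_pi_fintype,
      Fin.sum_univ_eq_sum_range (fun u => Module.finrank F (piece δ J u))]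

open Polynomial in
theorem one_sub_X_pow_natDegree {d : ℕ} (hd : 0 < d) :
    ((1 : ℤ[X]) - Polynomial.X ^ d).natDegree = d := by
  rw [← neg_sub, natDegree_neg, ← Polynomial.C_1, natDegree_X_pow_sub_C]

/-- The Hilbert polynomial. -/
theorem exists_hilb_poly (hδ : ∀ i, 0 < δ i) {g : Fin k → MvPolynomial (Fin k) F} {ε : Fin k → ℕ}
    (hg : ∀ i, IsWeightedHomogeneous δ (g i) (ε i))
    (hreg : RingTheory.Sequence.IsWeaklyRegular (MvPolynomial (Fin k) F) (List.ofFn g))
    (hfin : Module.Finite F (MvPolynomial (Fin k) F ⧸ Ideal.span (Set.range g))) :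
    ∃ p : Polynomial ℤ,
      p * ∏ i, (1 - Polynomial.X ^ δ i) = ∏ i, (1 - Polynomial.X ^ ε i) ∧
      (∀ u, p.coeff u = Module.finrank F (piece δ (Ideal.span (Set.range g)) u)) ∧
      p.eval 1 = Module.finrank F (MvPolynomial (Fin k) F ⧸ Ideal.span (Set.range g)) := by
  obtain ⟨N, hN, hsum⟩ := exists_top_piece
    (homog_span (w := δ) (S := Set.range g) (by rintro _ ⟨i, rfl⟩; exact ⟨_, hg i⟩)) hfin
  let p : Polynomial ℤ := ∑ u ∈ Finset.range N,
    Polynomial.monomial u (Module.finrank F (piece δ (Ideal.span (Set.range g)) u) : ℤ)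
  have hp : ∀ u, p.coeff u = Module.finrank F (piece δ (Ideal.span (Set.range g)) u) := by
    intro u
    simp only [p, Polynomial.finsetSum_coeff, Polynomial.coeff_monomial, Finset.sum_ite_eq',
      Finset.mem_range]
    split_ifs with h
    · rfl
    · rw [hN u (not_lt.mp h), finrank_bot]; rfl
  have hps : (p : PowerSeries ℤ) = hilb δ (Ideal.span (Set.range g)) := by
    ext u
    simp [hp, hilb]
  refine ⟨p, Polynomial.coe_injective ℤ ?_, hp, ?_⟩
  · have h := hilb_mul_prod hδ hg hreg
    rw [← hps] at h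
    simp only [← Polynomial.coeToPowerSeries.ringHom_apply, map_mul, map_prod, map_sub, map_one,
      map_pow] at h ⊢
    simpa using h
  · simp only [p, Polynomial.eval_finsetSum, Polynomial.eval_monomial, one_pow, mul_one, hsum,
      Nat.cast_sum]

theorem finrank_mul_prod (hδ : ∀ i, 0 < δ i) {g : Fin k → MvPolynomial (Fin k) F} {ε : Fin k → ℕ}
    (hg : ∀ i, IsWeightedHomogeneous δ (g i) (ε i))
    (hreg : RingTheory.Sequence.IsWeaklyRegular (MvPolynomial (Fin k) F) (List.ofFn g))
    (hfin : Module.Finite F (MvPolynomial (Fin k) F ⧸ Ideal.span (Set.range g))) :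
    Module.finrank F (MvPolynomial (Fin k) F ⧸ Ideal.span (Set.range g)) * ∏ i, δ i = ∏ i, ε i := by
  obtain ⟨p, h1, -, h3⟩ := exists_hilb_poly hδ hg hreg hfin
  have e : ∀ v : Fin k → ℕ, ∏ i, (1 - (Polynomial.X : Polynomial ℤ) ^ v i) =
      (1 - Polynomial.X) ^ k * ∏ i, ∑ j ∈ Finset.range (v i), (Polynomial.X : Polynomial ℤ) ^ j := by
    intro v
    simp_rw [← mul_neg_geom_sum, Finset.prod_mul_distrib]
    simp
  rw [e, e, mul_left_comm] at h1
  have h2 := mul_left_cancel₀ (pow_ne_zero k (fun h => by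
    have := congrArg (Polynomial.eval 0) h
    simp at this)) h1
  have h4 := congrArg (Polynomial.eval 1) h2
  simp only [Polynomial.eval_mul, Polynomial.eval_prod, Polynomial.eval_finsetSum,
    Polynomial.eval_pow, Polynomial.eval_X, one_pow, Finset.sum_const, Finset.card_range,
    nsmul_eq_mul, mul_one, h3] at h4
  exact_mod_cast h4

theorem top_degree (hδ : ∀ i, 0 < δ i) {g : Fin k → MvPolynomial (Fin k) F} {ε : Fin k → ℕ}
    (hε : ∀ i, 0 < ε i)
    (hg : ∀ i, IsWeightedHomogeneous δ (g i) (ε i))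
    (hreg : RingTheory.Sequence.IsWeaklyRegular (MvPolynomial (Fin k) F) (List.ofFn g))
    (hfin : Module.Finite F (MvPolynomial (Fin k) F ⧸ Ideal.span (Set.range g))) :
    piece δ (Ideal.span (Set.range g)) (∑ i, ε i - ∑ i, δ i) ≠ ⊥ ∧
      ∀ u, ∑ i, ε i - ∑ i, δ i < u → piece δ (Ideal.span (Set.range g)) u = ⊥ := by
  obtain ⟨p, h1, h2, -⟩ := exists_hilb_poly hδ hg hreg hfin
  have hne : ∀ d : ℕ, 0 < d → (1 : Polynomial ℤ) - Polynomial.X ^ d ≠ 0 := fun d hd h => by
    have := one_sub_X_pow_natDegree hd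
    rw [h, Polynomial.natDegree_zero] at this
    omega
  have hp : p ≠ 0 := by
    rintro rfl
    rw [zero_mul] at h1
    exact Finset.prod_ne_zero_iff.mpr (fun i _ => hne _ (hε i)) h1.symm
  have hd := congrArg Polynomial.natDegree h1
  rw [Polynomial.natDegree_mul hp (Finset.prod_ne_zero_iff.mpr fun i _ => hne _ (hδ i)),
    Polynomial.natDegree_prod _ _ (fun i _ => hne _ (hδ i)),
    Polynomial.natDegree_prod _ _ (fun i _ => hne _ (hε i)),
    Finset.sum_congr rfl (fun i _ => one_sub_X_pow_natDegree (hδ i)),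
    Finset.sum_congr rfl (fun i _ => one_sub_X_pow_natDegree (hε i))] at hd
  have hd' : p.natDegree + ∑ i, δ i = ∑ i, ε i := hd
  have hdeg : p.natDegree = ∑ i, ε i - ∑ i, δ i := by omega
  rw [← hdeg]
  refine ⟨fun h => ?_, fun u hu => ?_⟩
  · have := h2 p.natDegree
    rw [h, finrank_bot] at this
    exact hp (Polynomial.leadingCoeff_eq_zero.mp (this.trans Nat.cast_zero))
  · haveI := piece_fd hδ (Ideal.span (Set.range g)) u
    rw [← Submodule.finrank_eq_zero (R := F)]
    have := h2 u
    rw [Polynomial.coeff_eq_zero_of_natDegree_lt hu] at this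
    exact_mod_cast this.symm

end

end Groth.L12.GrCI
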